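import Groth.Prelude.Def_Canon
import Groth.Agent.PicLib.BasisOn
import Groth.Agent.PicLib.Invertible
import Groth.Agent.AmpleLib.Power
import Groth.Agent.GenSmoothLib.OmegaFree
import Groth.Agent.MorProj.OmegaAffine
import Groth.Agent.Lift15.NegCanonical

/-!
# Top exterior powers of finite locally free modules of given rank are invertible
-/

set_option autoImplicit false
set_option linter.unusedSectionVars false
set_option backward.isDefEq.respectTransparency false

universe u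

open CategoryTheory CategoryTheory.Limits AlgebraicGeometry TopologicalSpace Opposite
open Groth.Agent.Coherent Groth.Agent.PicLib Groth.Agent.AmpleLib

namespace Groth.Agent.Canon15

variable {X : Scheme.{u}}

theorem exists_isBasisOn_rank {n : ℕ} {N : X.Modules} (hN : FlatMod.IsFinLocFreeOfRank n N) (y : X) :
    ∃ (U : X.Opens) (e : ULift.{u} (Fin n) → Γ(N, U)), y ∈ U ∧ IsBasisOn N U e := by
  classical
  obtain ⟨U₀, hy, ⟨e⟩⟩ := hN y
  let ψ := e ≪≫ (Props12.freeModIso U₀.toScheme n).symm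
  let v : ∀ W : U₀.toScheme.Opens, ULift.{u} (Fin n) → Γ(N, U₀.ι ''ᵁ W) := fun W i =>
    (N.restrictAppIso U₀.ι W).hom (unitVal (freeInj i ≫ ψ.inv) W)
  refine ⟨U₀.ι ''ᵁ ⊤, v ⊤, (Scheme.Opens.ι_image_top U₀).ge hy, fun V hV => ?_⟩
  obtain ⟨W, rfl⟩ : ∃ W : U₀.toScheme.Opens, U₀.ι ''ᵁ W = V := by
    refine ⟨U₀.ι ⁻¹ᵁ V, ?_⟩
    rw [U₀.ι.image_preimage_eq_opensRange_inf, Scheme.Opens.opensRange_ι, inf_eq_right]
    exact hV.trans (Scheme.Opens.ι_image_top U₀).le
  have hres : ∀ i, resM N hV (v ⊤ i) = v W i := fun i => by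
    show resM N hV ((N.restrictAppIso U₀.ι ⊤).hom (unitVal _ ⊤)) = (N.restrictAppIso U₀.ι W).hom (unitVal _ W)
    rw [← resM_unitVal (freeInj i ≫ ψ.inv) (le_top : W ≤ ⊤)]
    rfl
  have h1 := ConcreteCategory.bijective_of_isIso (U₀.ι.appIso W).hom
  have h2 := (freeSectionsEquiv (X := U₀.toScheme) (I := ULift.{u} (Fin n)) W).symm.bijective
  have h3 := ConcreteCategory.bijective_of_isIso (C := AddCommGrpCat) (ψ.inv.app W)
  have h4 := ConcreteCategory.bijective_of_isIso (N.restrictAppIso U₀.ι W).hom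
  have h1' : Function.Bijective (fun c : ULift.{u} (Fin n) → Γ(X, U₀.ι ''ᵁ W) => fun i => (U₀.ι.appIso W).hom (c i)) :=
    Function.Bijective.piMap fun _ => h1
  convert h4.comp (h3.comp (h2.comp h1')) using 1
  funext c
  simp only [Function.comp_apply, hres]
  rw [freeMod_app, map_sum]
  refine Finset.sum_congr rfl fun i _ => ?_
  refine Eq.trans ?_ (Scheme.Modules.smul_restrictAppIso_hom_apply U₀.ι N W _ _).symm
  congr 1
  show c i = (U₀.ι.appIso W).inv (freeSectionsEquiv W ((freeSectionsEquiv W).symm _) i)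
  rw [LinearEquiv.apply_symm_apply, ← ConcreteCategory.comp_apply, Iso.hom_inv_id]
  rfl

/-- An `n`-th exterior power of a finite locally free module of rank `n` is invertible. -/
theorem isInvertible_of_isExtPow {n : ℕ} {N L : X.Modules} (hN : FlatMod.IsFinLocFreeOfRank n N)
    (hL : ExtPow.IsExtPow n N L) : PicF.IsInvertible L := by
  obtain ⟨φ, hφ⟩ := hL
  refine isInvertible_of_gens fun y => ?_
  obtain ⟨U₀, e₀, hy₀, hb₀⟩ := exists_isBasisOn_rank hN y
  obtain ⟨U, hU, hyU, hle⟩ := Opens.isBasis_iff_nbhd.mp X.isBasis_affineOpens hy₀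
  let e : Fin n → N.val.obj (op U) := fun i => resM N hle (e₀ ⟨i⟩)
  refine ⟨U, hyU, (φ ⟨U, hU⟩).symm (exteriorPower.ιMulti _ n e), Lift15.isGen_of_affine _ fun V hV h => ?_⟩
  let e' : Fin n → N.val.obj (op V) := fun i => N.val.map (homOfLE h).op (e i)
  have hres : ∀ i, e' i = resM N (h.trans hle) (e₀ ⟨i⟩) := fun i => resM_resM N hle h (e₀ ⟨i⟩)
  let T : (Fin n → Γ(X, V)) →ₗ[Γ(X, V)] N.val.obj (op V) := Fintype.linearCombination Γ(X, V) e'
  have hT : Function.Bijective T := by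
    have hh := hb₀ (h.trans hle)
    have key : ⇑T = (fun c : ULift.{u} (Fin n) → Γ(X, V) => ∑ i, c i • resM N (h.trans hle) (e₀ i)) ∘
        fun c i => c i.down := funext fun c => by
      show ∑ i, c i • e' i = ∑ i : ULift.{u} (Fin n), c i.down • resM N (h.trans hle) (e₀ i)
      refine Fintype.sum_equiv Equiv.ulift.symm _ _ fun i => ?_
      rw [hres i]
      rfl
    rw [key]
    exact hh.comp (Equiv.arrowCongr Equiv.ulift.symm (Equiv.refl _)).bijective
  let b : Module.Basis (Fin n) Γ(X, V) (N.val.obj (op V)) := Module.Basis.ofEquivFun (LinearEquiv.ofBijective T hT).symm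
  have hb : ⇑b = e' := funext fun i => by
    classical
    simp [b, T, Fintype.linearCombination_apply, Module.Basis.coe_ofEquivFun, LinearEquiv.ofBijective_apply, Pi.single_apply, ite_smul]
  have hbij := Frob15.bijective_smul_ιMulti b
  rw [hb] at hbij
  have hcomp := (φ ⟨V, hV⟩).symm.bijective.comp hbij
  have key : (fun r : Γ(X, V) => r • resM L h ((φ ⟨U, hU⟩).symm (exteriorPower.ιMulti _ n e))) =
      ⇑(φ ⟨V, hV⟩).symm ∘ (fun r : Γ(X, V) => r • exteriorPower.ιMulti Γ(X, V) n e') := funext fun r => by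
    rw [show resM L h ((φ ⟨U, hU⟩).symm (exteriorPower.ιMulti _ n e)) =
      (φ ⟨V, hV⟩).symm (exteriorPower.ιMulti _ n e') from hφ ⟨U, hU⟩ ⟨V, hV⟩ h e]
    exact ((φ ⟨V, hV⟩).symm.map_smul r _).symm
  rw [key]
  exact hcomp

theorem isFinLocFreeOfRank_omega {S : Scheme.{u}} (f : X ⟶ S) (n : ℕ) [SmoothOfRelativeDimension n f]
    [IsSeparated f] : FlatMod.IsFinLocFreeOfRank n (Omega.sheaf f) := by
  intro x
  obtain ⟨W, hW, V, hV, hxV, e, hst⟩ :=
    SmoothOfRelativeDimension.exists_isStandardSmoothOfRelativeDimension (n := n) (f := f) x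
  letI := (f.appLE W V e).hom.toAlgebra
  haveI : Algebra.IsStandardSmoothOfRelativeDimension n Γ(S, W) Γ(X, V) := hst
  obtain ⟨ψ⟩ := GenSmoothLib.exists_omega_equiv f hV hW e
  haveI : Nontrivial Γ(X, V) := by
    haveI : Nonempty (V.toScheme) := ⟨⟨x, hxV⟩⟩
    infer_instance
  obtain ⟨b⟩ := OmegaLib.exists_basis_kaehler Γ(S, W) Γ(X, V) n
  haveI := MorProj.isQCoh_omega f
  exact ⟨V, hxV, OmegaLib.exists_iso_freeMod_affine (Omega.sheaf f) hV (b.map ψ)⟩

theorem isInvertible_tensorPow_topDiff {S : Scheme.{u}} (f : X ⟶ S) (n : ℕ) [SmoothOfRelativeDimension n f]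
    [IsSeparated f] (ω : X.Modules) (hω : Canon.IsTopDiff f n ω) (m : ℕ) :
    PicF.IsInvertible (CohB1.tensorPow ω m) :=
  AmpleLib.isInvertible_tensorPow (isInvertible_of_isExtPow (isFinLocFreeOfRank_omega f n) hω) m

end Groth.Agent.Canon15
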