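import Groth.Agent.Canon15.TopDiff
import Groth.Agent.DR15.ExtBaseChange
import Groth.Agent.EGA43.QcohFP
import Groth.Agent.CAlgH3.LocFreeFactor
import Groth.Agent.Coherent.CohBC.HomSheaf
import Groth.Agent.EGA43.InjFibre.Scheme
import Groth.Agent.LocFreeLib.Semilocal

/-!
# Top exterior powers of locally free modules commute with inverse images
-/

set_option autoImplicit false
set_option linter.style.haveILetI false
set_option linter.unusedSectionVars false
set_option maxHeartbeats 1600000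
set_option backward.isDefEq.respectTransparency.types false

universe u

open CategoryTheory CategoryTheory.Limits AlgebraicGeometry TopologicalSpace Opposite
open Groth.Agent.Coherent Groth.Agent.PicLib Groth.Agent.AmpleLib

namespace Groth.Agent.Canon15.ExtPull

variable {X Y : Scheme.{u}} (f : Y ⟶ X) {n : ℕ} {E L : X.Modules}

/-- A frame: an affine open with a basis of the module. -/
structure Frame (E : X.Modules) (n : ℕ) where
  V : X.affineOpens
  b : ULift.{u} (Fin n) → Γ(E, V.1)
  hb : IsBasisOn E V.1 b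

variable (φ : ∀ U : X.affineOpens, (L.val.obj (op U.1)) ≃ₗ[Γ(X, U.1)] ↥(⋀[Γ(X, U.1)]^n (E.val.obj (op U.1))))

/-- The wedge of a frame. -/
noncomputable def wedge (i : Frame E n) : Γ(L, i.V.1) :=
  (φ i.V).symm (exteriorPower.ιMulti _ n fun a => (show E.val.obj (op i.V.1) from i.b ⟨a⟩))

/-- The pulled back wedge of a frame. -/
noncomputable def gen (i : Frame E n) : Γ((Scheme.Modules.pullback f).obj L, f ⁻¹ᵁ i.V.1) :=
  pullSec f (wedge φ i)

variable {f}

theorem pullBasis (i : Frame E n) :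
    IsBasisOn ((Scheme.Modules.pullback f).obj E) (f ⁻¹ᵁ i.V.1) fun a => pullSec f (i.b a) :=
  i.hb.pull f

/-- Coordinates in a pulled back frame, as a linear map. -/
noncomputable def coefLin (i : Frame E n) {W : Y.Opens} (h : W ≤ f ⁻¹ᵁ i.V.1) :
    Γ((Scheme.Modules.pullback f).obj E, W) →ₗ[Γ(Y, W)] (Fin n → Γ(Y, W)) where
  toFun x a := (pullBasis i).coef h x ⟨a⟩
  map_add' x y := funext fun a => congrFun ((pullBasis i).coef_add h x y) _
  map_smul' r x := funext fun a => congrFun ((pullBasis i).coef_smul h r x) _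

variable (f) in
/-- The value in a frame. -/
noncomputable def val (i : Frame E n) {W : Y.Opens} (h : W ≤ f ⁻¹ᵁ i.V.1)
    (e : Fin n → Γ((Scheme.Modules.pullback f).obj E, W)) : Γ((Scheme.Modules.pullback f).obj L, W) :=
  Matrix.det (Matrix.of fun a => coefLin i h (e a)) • resM _ h (gen f φ i)

theorem val_res (i : Frame E n) {W W' : Y.Opens} (h : W ≤ f ⁻¹ᵁ i.V.1) (h' : W' ≤ W)
    (e : Fin n → Γ((Scheme.Modules.pullback f).obj E, W)) :
    resM _ h' (val f φ i h e) = val f φ i (h'.trans h) fun a => resM _ h' (e a) := by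
  simp only [val]
  rw [resM_smul, resM_resM]
  congr 1
  rw [RingHom.map_det]
  congr 1
  ext a b
  exact (congrFun ((pullBasis i).coef_res h h' (e a)) ⟨b⟩).symm

variable (hφ : ∀ (U V : X.affineOpens) (h : V.1 ≤ U.1) (e : Fin n → E.val.obj (op U.1)),
      L.val.map (homOfLE h).op ((φ U).symm (exteriorPower.ιMulti _ n e)) =
        (φ V).symm (exteriorPower.ιMulti _ n (fun j => E.val.map (homOfLE h).op (e j))))

/-- The restriction of a frame. -/
noncomputable def Frame.restr (i : Frame E n) (U : X.affineOpens) (h : U.1 ≤ i.V.1) : Frame E n :=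
  ⟨U, fun a => resM E h (i.b a), CAlgH3.LocFreeFactor.IsBasisOn.mono i.hb h⟩

include hφ in
theorem val_restr (i : Frame E n) (U : X.affineOpens) (hU : U.1 ≤ i.V.1) {W : Y.Opens}
    (h : W ≤ f ⁻¹ᵁ U.1) (h' : W ≤ f ⁻¹ᵁ i.V.1) (e : Fin n → Γ((Scheme.Modules.pullback f).obj E, W)) :
    val f φ (i.restr U hU) h e = val f φ i h' e := by
  simp only [val]
  congr 1
  · congr 1
    ext a b
    show (pullBasis (i.restr U hU)).coef h (e a) ⟨b⟩ = (pullBasis i).coef h' (e a) ⟨b⟩
    refine congrFun ((pullBasis (i.restr U hU)).coef_eq h ?_) _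
    refine Eq.trans ?_ ((pullBasis i).coef_spec h' (e a))
    refine Finset.sum_congr rfl fun c _ => congrArg _ ?_
    show resM _ h (pullSec f (resM E hU (i.b c))) = _
    rw [← resM_pullSec, resM_resM]
  · show resM _ h (pullSec f (wedge φ (i.restr U hU))) = resM _ h' (pullSec f (wedge φ i))
    rw [show wedge φ (i.restr U hU) = resM L hU (wedge φ i) from (hφ i.V U hU _).symm, ← resM_pullSec,
      resM_resM]

theorem val_change (V : X.affineOpens) (b b' : ULift.{u} (Fin n) → Γ(E, V.1)) (hb : IsBasisOn E V.1 b)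
    (hb' : IsBasisOn E V.1 b') {W : Y.Opens} (h : W ≤ f ⁻¹ᵁ V.1)
    (e : Fin n → Γ((Scheme.Modules.pullback f).obj E, W)) :
    val f φ ⟨V, b', hb'⟩ h e = val f φ ⟨V, b, hb⟩ h e := by
  classical
  let i : Frame E n := ⟨V, b, hb⟩
  let i' : Frame E n := ⟨V, b', hb'⟩
  let A : Matrix (Fin n) (Fin n) Γ(X, V.1) := Matrix.of fun a c => hb.coef le_rfl (b' ⟨a⟩) ⟨c⟩
  have hA : ∀ a, b' ⟨a⟩ = ∑ c, A a c • b ⟨c⟩ := fun a => by
    conv_lhs => rw [← hb.coef_spec le_rfl (b' ⟨a⟩)]
    simp only [resM_self]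
    exact Fintype.sum_equiv Equiv.ulift _ _ fun c => rfl
  have hw : wedge φ i' = A.det • wedge φ i := by
    have h0 := Frob15.alternating_sum_smul (exteriorPower.ιMulti Γ(X, V.1) n (M := E.val.obj (op V.1))) A
      (fun c => (show E.val.obj (op V.1) from b ⟨c⟩))
    show (φ V).symm (exteriorPower.ιMulti _ n fun a => (show E.val.obj (op V.1) from b' ⟨a⟩)) = _
    rw [show (fun a => (show E.val.obj (op V.1) from b' ⟨a⟩)) =
      fun a => ∑ c, A a c • (show E.val.obj (op V.1) from b ⟨c⟩) from funext hA, h0]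
    exact (φ V).symm.map_smul _ _
  let ρ : Γ(X, V.1) →+* Γ(Y, W) := (f.appLE V.1 W h).hom
  have hρ : ∀ r : Γ(X, V.1), PicLib.res h (f.app V.1 r) = ρ r := fun r => rfl
  have hM : ∀ a, coefLin i h (e a) = fun c => ∑ d, coefLin i' h (e a) d * ρ (A d c) := fun a => by
    funext c
    show (pullBasis i).coef h (e a) ⟨c⟩ = _
    refine congrFun ((pullBasis i).coef_eq h
      (c := fun c : ULift.{u} (Fin n) => ∑ d, coefLin i' h (e a) d * ρ (A d c.down)) ?_) ⟨c⟩
    refine Eq.trans ?_ ((pullBasis i').coef_spec h (e a))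
    refine Eq.trans (Fintype.sum_equiv Equiv.ulift _ (fun c : Fin n =>
      (∑ d, coefLin i' h (e a) d * ρ (A d c)) • resM _ h (pullSec f (b ⟨c⟩))) fun c => rfl) ?_
    refine Eq.trans ?_ (Fintype.sum_equiv Equiv.ulift.symm (fun d : Fin n =>
      coefLin i' h (e a) d • resM _ h (pullSec f (b' ⟨d⟩))) _ fun d => rfl)
    simp only [Finset.sum_smul, mul_smul]
    rw [Finset.sum_comm]
    refine Finset.sum_congr rfl fun d _ => ?_
    rw [← Finset.smul_sum]
    refine congrArg _ ?_
    have hps : pullSec f (b' ⟨d⟩) = ∑ c, f.app V.1 (A d c) • pullSec f (b ⟨c⟩) := by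
      rw [hA d]
      refine Eq.trans (map_sum (((Scheme.Modules.pullbackPushforwardAdjunction f).unit.app E).app V.1).hom
        (fun c => A d c • b ⟨c⟩) Finset.univ) ?_
      exact Finset.sum_congr rfl fun c _ => pullSec_smul f _ _
    rw [hps, map_sum]
    exact Finset.sum_congr rfl fun c _ => by rw [resM_smul, hρ]
  show _ • resM _ h (gen f φ i') = Matrix.det (Matrix.of fun a => coefLin i h (e a)) • resM _ h (gen f φ i)
  rw [show gen f φ i' = f.app V.1 A.det • gen f φ i from by
      show pullSec f (wedge φ i') = _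
      rw [hw]; exact pullSec_smul f _ _,
    resM_smul, smul_smul, hρ]
  congr 1
  rw [show Matrix.of (fun a => coefLin i h (e a)) =
      Matrix.of (fun a => coefLin i' h (e a)) * A.map ρ from by
    ext a c
    rw [Matrix.mul_apply]
    exact congrFun (hM a) c, Matrix.det_mul]
  congr 1
  exact RingHom.map_det ρ A

include hφ in
theorem val_congr (i j : Frame E n) {W : Y.Opens} (h : W ≤ f ⁻¹ᵁ i.V.1) (h' : W ≤ f ⁻¹ᵁ j.V.1)
    (e : Fin n → Γ((Scheme.Modules.pullback f).obj E, W)) : val f φ i h e = val f φ j h' e := by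
  have hpt : ∀ y : Y, y ∈ W → ∃ U : X.affineOpens, U.1 ≤ i.V.1 ∧ U.1 ≤ j.V.1 ∧ f y ∈ U.1 := fun y hy => by
    obtain ⟨U, hU, hyU, hle⟩ := exists_isAffineOpen_mem_and_subset (x := f y) (U := i.V.1 ⊓ j.V.1)
      ⟨h hy, h' hy⟩
    exact ⟨⟨U, hU⟩, fun z hz => (hle hz).1, fun z hz => (hle hz).2, hyU⟩
  choose U hUi hUj hyU using hpt
  refine TopCat.Sheaf.eq_of_locally_eq'
    (⟨((Scheme.Modules.pullback f).obj L).presheaf, ((Scheme.Modules.pullback f).obj L).isSheaf⟩ : TopCat.Sheaf Ab Y)
    (fun y : {y // y ∈ W} => W ⊓ f ⁻¹ᵁ (U y.1 y.2).1) W (fun y => homOfLE inf_le_left)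
    (fun y hy => Opens.mem_iSup.2 ⟨⟨y, hy⟩, hy, hyU y hy⟩) _ _ fun y => ?_
  show resM _ inf_le_left (val f φ i h e) = resM _ inf_le_left (val f φ j h' e)
  rw [val_res, val_res, ← val_restr φ hφ i (U y.1 y.2) (hUi y.1 y.2) inf_le_right,
    ← val_restr φ hφ j (U y.1 y.2) (hUj y.1 y.2) inf_le_right]
  exact val_change φ (U y.1 y.2) _ _ _ _ _ _

/-- The characterisation of the wedge of sections of the inverse image. -/
def IsWedge {U : Y.Opens} (e : Fin n → Γ((Scheme.Modules.pullback f).obj E, U))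
    (s : Γ((Scheme.Modules.pullback f).obj L, U)) : Prop :=
  ∀ (i : Frame E n) (W : Y.Opens) (hW : W ≤ U) (h : W ≤ f ⁻¹ᵁ i.V.1),
    resM _ hW s = val f φ i h fun a => resM _ hW (e a)

theorem exists_frame (hE : FlatMod.IsFinLocFreeOfRank n E) (x : X) {U : X.Opens} (hx : x ∈ U) :
    ∃ i : Frame E n, x ∈ i.V.1 ∧ i.V.1 ≤ U := by
  obtain ⟨U₀, b, hx₀, hb⟩ := exists_isBasisOn_rank hE x
  obtain ⟨V, hV, hxV, hle⟩ := exists_isAffineOpen_mem_and_subset (x := x) (U := U₀ ⊓ U) ⟨hx₀, hx⟩
  exact ⟨⟨⟨V, hV⟩, _, CAlgH3.LocFreeFactor.IsBasisOn.mono hb (show V ≤ U₀ from fun z hz => (hle hz).1)⟩, hxV, fun z hz => (hle hz).2⟩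

variable (hE : FlatMod.IsFinLocFreeOfRank n E)
include hE

theorem wedge_unique {U : Y.Opens} {e : Fin n → Γ((Scheme.Modules.pullback f).obj E, U)}
    {s t : Γ((Scheme.Modules.pullback f).obj L, U)} (hs : IsWedge φ e s) (ht : IsWedge φ e t) : s = t := by
  refine TopCat.Sheaf.eq_of_locally_eq'
    (⟨((Scheme.Modules.pullback f).obj L).presheaf, ((Scheme.Modules.pullback f).obj L).isSheaf⟩ : TopCat.Sheaf Ab Y)
    (fun i : Frame E n => U ⊓ f ⁻¹ᵁ i.V.1) U (fun i => homOfLE inf_le_left)
    (fun y hy => ?_) _ _ fun i => (hs i _ inf_le_left inf_le_right).trans (ht i _ inf_le_left inf_le_right).symm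
  obtain ⟨i, hi, -⟩ := exists_frame hE (f y) (Opens.mem_top _)
  exact Opens.mem_iSup.2 ⟨i, hy, hi⟩

include hφ in
theorem exists_wedge {U : Y.Opens} (e : Fin n → Γ((Scheme.Modules.pullback f).obj E, U)) :
    ∃ s, IsWedge φ e s := by
  let M := (Scheme.Modules.pullback f).obj L
  obtain ⟨s, hs, -⟩ := TopCat.Sheaf.existsUnique_gluing' (⟨M.presheaf, M.isSheaf⟩ : TopCat.Sheaf Ab Y)
    (fun i : Frame E n => U ⊓ f ⁻¹ᵁ i.V.1) U (fun i => homOfLE inf_le_left)
    (fun y hy => let ⟨i, hi, _⟩ := exists_frame hE (f y) (Opens.mem_top _); Opens.mem_iSup.2 ⟨i, hy, hi⟩)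
    (fun i => val f φ i inf_le_right fun a => resM _ inf_le_left (e a)) (fun i j => by
      show resM M inf_le_left (val f φ i inf_le_right _) = resM M inf_le_right (val f φ j inf_le_right _)
      rw [val_res, val_res]
      simp only [resM_resM]
      exact val_congr φ hφ i j _ _ _)
  refine ⟨s, fun i W hW h => ?_⟩
  have := congrArg (resM M (le_inf hW h)) (hs i)
  change resM M _ (resM M inf_le_left s) = _ at this
  rw [resM_resM, val_res] at this
  simp only [resM_resM] at this
  exact this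

include hφ in
/-- The wedge of sections as an alternating map. -/
theorem exists_alt (U : Y.Opens) :
    ∃ ψ : AlternatingMap Γ(Y, U) (((Scheme.Modules.pullback f).obj E).val.obj (op U))
        (((Scheme.Modules.pullback f).obj L).val.obj (op U)) (Fin n),
      ∀ e, IsWedge φ e (ψ e) := by
  classical
  choose s hs using fun e : Fin n → Γ((Scheme.Modules.pullback f).obj E, U) => exists_wedge φ hφ hE e
  have hrow : ∀ (i : Frame E n) (W : Y.Opens) (hW : W ≤ U) (h : W ≤ f ⁻¹ᵁ i.V.1)
      (e : Fin n → ((Scheme.Modules.pullback f).obj E).val.obj (op U)) (j : Fin n) (x : ((Scheme.Modules.pullback f).obj E).val.obj (op U)),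
      Matrix.of (fun a => coefLin i h (resM _ hW (Function.update e j x a))) =
        (Matrix.of fun a => coefLin i h (resM _ hW (e a))).updateRow j (coefLin i h (resM _ hW x)) := by
    intro i W hW h e j x
    ext a c
    rcases eq_or_ne a j with rfl | hne
    · simp
    · simp [Matrix.updateRow_ne hne, Function.update_of_ne hne]
  refine ⟨{ toFun := fun e => s e
            map_update_add' := ?_
            map_update_smul' := ?_
            map_eq_zero_of_eq' := ?_ }, hs⟩
  · intro inst e j x y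
    have hinst := Subsingleton.elim inst (instDecidableEqFin n)
    subst hinst
    refine wedge_unique φ hE (hs _) fun i W hW h => ?_
    refine (map_add _ _ _).trans ?_
    rw [hs _ i W hW h, hs _ i W hW h]
    show val f φ i h (fun a => resM _ hW (Function.update e j x a)) + val f φ i h _ = val f φ i h _
    simp only [val]
    rw [← add_smul, hrow i W hW h e j, hrow i W hW h e j, hrow i W hW h e j,
      show resM _ hW (x + y) = resM _ hW x + resM _ hW y from map_add _ _ _, map_add,
      Matrix.det_updateRow_add]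
  · intro inst e j c x
    have hinst := Subsingleton.elim inst (instDecidableEqFin n)
    subst hinst
    refine wedge_unique φ hE (hs _) fun i W hW h => ?_
    refine (resM_smul _ _ _ _).trans ?_
    rw [hs _ i W hW h]
    show _ • val f φ i h (fun a => resM _ hW (Function.update e j x a)) = val f φ i h _
    simp only [val]
    rw [smul_smul, hrow i W hW h e j, hrow i W hW h e j,
      show resM _ hW (c • x) = PicLib.res hW c • resM _ hW x from resM_smul _ _ _ _, map_smul,
      Matrix.det_updateRow_smul]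
  · intro e a b hab hne
    refine wedge_unique φ hE (hs _) fun i W hW h => ?_
    refine (map_zero _).trans ?_
    simp only [val]
    rw [Matrix.det_zero_of_row_eq hne (by ext c; simp [hab]), zero_smul]

theorem isGen_gen (hφ : ∀ (U V : X.affineOpens) (h : V.1 ≤ U.1) (e : Fin n → E.val.obj (op U.1)),
      L.val.map (homOfLE h).op ((φ U).symm (exteriorPower.ιMulti _ n e)) =
        (φ V).symm (exteriorPower.ιMulti _ n (fun j => E.val.map (homOfLE h).op (e j)))) (i : Frame E n) :
    IsGen ((Scheme.Modules.pullback f).obj L) (f ⁻¹ᵁ i.V.1) (gen f φ i) := by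
  classical
  refine isGen_pullSec f (Lift15.isGen_of_affine _ fun V hV h => ?_) (isInvertible_of_isExtPow hE ⟨φ, hφ⟩)
  let b := (Coherent.CohBC.moduleBasisOfIsBasisOn (CAlgH3.LocFreeFactor.IsBasisOn.mono i.hb h)).reindex Equiv.ulift
  have hbij := Frob15.bijective_smul_ιMulti b
  have hcomp := (φ ⟨V, hV⟩).symm.bijective.comp hbij
  have key : (fun r : Γ(X, V) => r • resM L h (wedge φ i)) =
      ⇑(φ ⟨V, hV⟩).symm ∘ (fun r : Γ(X, V) => r • exteriorPower.ιMulti Γ(X, V) n b) := funext fun r => by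
    rw [show resM L h (wedge φ i) = _ from hφ i.V ⟨V, hV⟩ h _]
    refine ((φ ⟨V, hV⟩).symm.map_smul r _).symm.trans ?_
    show (φ ⟨V, hV⟩).symm _ = (φ ⟨V, hV⟩).symm _
    congr 3
    funext a
    simp [b, Coherent.CohBC.moduleBasisOfIsBasisOn, Module.Basis.coe_ofEquivFun, Fintype.linearCombination_apply,
      Pi.single_apply, ite_smul]
    rfl
  rw [key]
  exact hcomp

include hφ in
/-- The wedge map on a small open is bijective. -/
theorem bijective_small {U : Y.Opens} (i : Frame E n) (h : U ≤ f ⁻¹ᵁ i.V.1)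
    (ψ : AlternatingMap Γ(Y, U) (((Scheme.Modules.pullback f).obj E).val.obj (op U))
        (((Scheme.Modules.pullback f).obj L).val.obj (op U)) (Fin n)) (hψ : ∀ e, IsWedge φ e (ψ e)) :
    Function.Bijective (exteriorPower.alternatingMapLinearEquiv ψ) := by
  classical
  let b := (Coherent.CohBC.moduleBasisOfIsBasisOn (CAlgH3.LocFreeFactor.IsBasisOn.mono (pullBasis (f := f) i) h)).reindex
    Equiv.ulift
  have hb : ∀ a, b a = resM _ h (pullSec f (i.b ⟨a⟩)) := fun a => by
    simp [b, Coherent.CohBC.moduleBasisOfIsBasisOn, Module.Basis.coe_ofEquivFun, Fintype.linearCombination_apply,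
      Pi.single_apply, ite_smul]
  have hv : ψ b = resM _ h (gen f φ i) := by
    have hs := hψ b i U le_rfl h
    simp only [resM_self] at hs
    rw [hs]
    simp only [val]
    rw [show Matrix.of (fun a => coefLin i h (b a)) = 1 from ?_, Matrix.det_one, one_smul]
    ext a c
    show (pullBasis i).coef h (b a) ⟨c⟩ = (1 : Matrix (Fin n) (Fin n) Γ(Y, U)) a c
    rw [(pullBasis i).coef_eq h (c := Pi.single (⟨a⟩ : ULift.{u} (Fin n)) 1) (by simp [hb, Pi.single_apply, ite_smul]),
      Matrix.one_apply, Pi.single_apply]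
    simp [ULift.ext_iff, eq_comm]
  have h1 := Frob15.bijective_smul_ιMulti b
  have h2 := isGen_gen φ hE hφ i U h
  refine (Function.Bijective.of_comp_iff _ h1).1 ?_
  have key : (⇑(exteriorPower.alternatingMapLinearEquiv ψ) ∘ fun r : Γ(Y, U) => r • exteriorPower.ιMulti Γ(Y, U) n b) =
      fun r : Γ(Y, U) => r • resM ((Scheme.Modules.pullback f).obj L) h (gen f φ i) := funext fun r => by
    show exteriorPower.alternatingMapLinearEquiv ψ (r • exteriorPower.ιMulti Γ(Y, U) n b) = _
    exact ((exteriorPower.alternatingMapLinearEquiv ψ).map_smul r _).trans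
      (congrArg (r • ·) ((exteriorPower.alternatingMapLinearEquiv_apply_ιMulti _ _).trans hv))
  exact Eq.mpr (congrArg Function.Bijective key) h2

include hφ in
/-- The wedge map on an affine open is bijective. -/
theorem bijective_affine (hLinv : PicF.IsInvertible L) (U : Y.affineOpens)
    (ψ : ∀ V : Y.Opens, AlternatingMap Γ(Y, V) (((Scheme.Modules.pullback f).obj E).val.obj (op V))
        (((Scheme.Modules.pullback f).obj L).val.obj (op V)) (Fin n)) (hψ : ∀ V e, IsWedge φ e (ψ V e)) :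
    Function.Bijective (exteriorPower.alternatingMapLinearEquiv (ψ U.1)) := by
  classical
  let E' := (Scheme.Modules.pullback f).obj E
  let L' := (Scheme.Modules.pullback f).obj L
  haveI : Coh.IsQCoh E' := by
    haveI := LocFreeLib.isQCoh_of_isFinLocFreeOfRank hE
    exact EGA43.InjFibre.isQCoh_pullback f E
  haveI : Coh.IsQCoh L' := AmpleLib.isQCoh_of_isInvertible (PicLoc.isInvertible_pullback f hLinv)
  let t : Set Γ(Y, U.1) := {g | ∃ i : Frame E n, Y.basicOpen g ≤ f ⁻¹ᵁ i.V.1}
  have ht : Ideal.span t = ⊤ := by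
    refine U.2.self_le_iSup_basicOpen_iff.1 fun y hy => ?_
    obtain ⟨i, hi, -⟩ := exists_frame hE (f y) (Opens.mem_top _)
    obtain ⟨g, hg, hyg⟩ := U.2.exists_basicOpen_le ⟨y, (show y ∈ f ⁻¹ᵁ i.V.1 from hi)⟩ hy
    exact Opens.mem_iSup.2 ⟨⟨g, i, hg⟩, hyg⟩
  let : ∀ g : t, Algebra Γ(Y, U.1) Γ(Y, Y.basicOpen g.val) := fun g =>
    (Y.presheaf.map (homOfLE (Y.basicOpen_le g.val)).op).hom.toAlgebra
  let : ∀ g : t, Module Γ(Y, U.1) (E'.val.obj (op (Y.basicOpen g.val))) := fun g =>
    Module.compHom _ (Y.presheaf.map (homOfLE (Y.basicOpen_le g.val)).op).hom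
  let : ∀ g : t, Module Γ(Y, U.1) (L'.val.obj (op (Y.basicOpen g.val))) := fun g =>
    Module.compHom _ (Y.presheaf.map (homOfLE (Y.basicOpen_le g.val)).op).hom
  have : ∀ g : t, IsScalarTower Γ(Y, U.1) Γ(Y, Y.basicOpen g.val) (E'.val.obj (op (Y.basicOpen g.val))) :=
    fun g => IsScalarTower.of_algebraMap_smul fun _ _ => rfl
  have : ∀ g : t, IsScalarTower Γ(Y, U.1) Γ(Y, Y.basicOpen g.val) (L'.val.obj (op (Y.basicOpen g.val))) :=
    fun g => IsScalarTower.of_algebraMap_smul fun _ _ => rfl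
  have : ∀ g : t, IsLocalization.Away g.val Γ(Y, Y.basicOpen g.val) := fun g =>
    U.2.isLocalization_basicOpen g.val
  let rE : ∀ g : t, E'.val.obj (op U.1) →ₗ[Γ(Y, U.1)] E'.val.obj (op (Y.basicOpen g.val)) := fun g =>
    { toFun := fun m => resM E' (Y.basicOpen_le g.val) m
      map_add' := fun a b => map_add _ a b
      map_smul' := fun r m => resM_smul E' _ r m }
  let rL : ∀ g : t, L'.val.obj (op U.1) →ₗ[Γ(Y, U.1)] L'.val.obj (op (Y.basicOpen g.val)) := fun g =>
    { toFun := fun m => resM L' (Y.basicOpen_le g.val) m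
      map_add' := fun a b => map_add _ a b
      map_smul' := fun r m => resM_smul L' _ r m }
  haveI : ∀ g : t, IsLocalizedModule.Away g.val (rL g) := fun g =>
    EGA43.QcohFP.isLocalizedModule_res L' U.2 g.val (rL g) fun _ => rfl
  have hbc : ∀ g : t, IsBaseChange Γ(Y, Y.basicOpen g.val) (rE g) := fun g =>
    haveI : IsLocalizedModule.Away g.val (rE g) :=
      EGA43.QcohFP.isLocalizedModule_res E' U.2 g.val (rE g) fun _ => rfl
    IsLocalizedModule.isBaseChange (Submonoid.powers g.val) _ _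
  let rA : ∀ g : t, ↥(⋀[Γ(Y, U.1)]^n (E'.val.obj (op U.1))) →ₗ[Γ(Y, U.1)]
      ↥(⋀[Γ(Y, Y.basicOpen g.val)]^n (E'.val.obj (op (Y.basicOpen g.val)))) := fun g =>
    exteriorPower.alternatingMapLinearEquiv
      { toMultilinearMap := ((exteriorPower.ιMulti Γ(Y, Y.basicOpen g.val) n
            (M := E'.val.obj (op (Y.basicOpen g.val)))).toMultilinearMap.restrictScalars Γ(Y, U.1)).compLinearMap
              fun _ => rE g
        map_eq_zero_of_eq' := fun v a b hab hne =>
          (exteriorPower.ιMulti Γ(Y, Y.basicOpen g.val) n).map_eq_zero_of_eq _ (congrArg (rE g) hab) hne }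
  have hrA : ∀ g v, rA g (exteriorPower.ιMulti _ n v) = exteriorPower.ιMulti _ n (rE g ∘ v) := fun g v =>
    exteriorPower.alternatingMapLinearEquiv_apply_ιMulti _ _
  haveI : ∀ g : t, IsLocalizedModule.Away g.val (rA g) := fun g =>
    (isLocalizedModule_iff_isBaseChange (Submonoid.powers g.val) Γ(Y, Y.basicOpen g.val) (rA g)).2
      (DR15.exteriorPower_isBaseChange (hbc g) n (rA g) (hrA g))
  let MA : ∀ _ : t, Type u := fun g => ↥(⋀[Γ(Y, Y.basicOpen g.val)]^n (E'.val.obj (op (Y.basicOpen g.val))))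
  let iA : ∀ g : t, Module Γ(Y, U.1) (MA g) := fun g => inferInstanceAs (Module Γ(Y, U.1) ↥(⋀[Γ(Y, Y.basicOpen g.val)]^n (E'.val.obj (op (Y.basicOpen g.val)))))
  refine bijective_of_isLocalized_span t ht MA rA _ rL _ fun g => ?_
  obtain ⟨i, hi⟩ := g.2
  have hb := bijective_small φ hφ hE i hi (ψ _) (hψ _)
  convert hb using 1
  refine (congrArg DFunLike.coe (IsLocalizedModule.linearMap_ext (Submonoid.powers g.val) (rA g) (rL g)
    (g := ((exteriorPower.alternatingMapLinearEquiv (ψ (Y.basicOpen g.val))).restrictScalars Γ(Y, U.1))) ?_)).symm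
  rw [IsLocalizedModule.map_comp]
  symm
  refine exteriorPower.linearMap_ext (AlternatingMap.ext fun v => ?_)
  show rL g (exteriorPower.alternatingMapLinearEquiv (ψ U.1) (exteriorPower.ιMulti _ n v)) =
    exteriorPower.alternatingMapLinearEquiv (ψ _) (rA g (exteriorPower.ιMulti _ n v))
  rw [hrA, exteriorPower.alternatingMapLinearEquiv_apply_ιMulti,
    exteriorPower.alternatingMapLinearEquiv_apply_ιMulti]
  refine wedge_unique φ hE ?_ (hψ _ _)
  intro j W hW h
  show resM L' hW (resM L' _ (ψ U.1 v)) = _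
  rw [resM_resM]
  refine (hψ U.1 v j W _ h).trans ?_
  congr 1
  funext a
  exact (resM_resM _ _ _ _).symm

end Groth.Agent.Canon15.ExtPull

namespace Groth.Agent.Canon15

variable {X Y : Scheme.{u}}

/-- The inverse image of a top exterior power is a top exterior power of the inverse image. -/
theorem isExtPow_pullback (f : Y ⟶ X) {n : ℕ} {E L : X.Modules} (hE : FlatMod.IsFinLocFreeOfRank n E)
    (hL : ExtPow.IsExtPow n E L) :
    ExtPow.IsExtPow n ((Scheme.Modules.pullback f).obj E) ((Scheme.Modules.pullback f).obj L) := by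
  obtain ⟨φ, hφ⟩ := hL
  choose ψ hψ using fun U => ExtPull.exists_alt (f := f) φ hφ hE U
  refine ⟨fun U => (LinearEquiv.ofBijective _ (ExtPull.bijective_affine φ hφ hE
    (isInvertible_of_isExtPow hE ⟨φ, hφ⟩) U ψ hψ)).symm, fun U V h e => ?_⟩
  simp only [LinearEquiv.symm_symm, LinearEquiv.ofBijective_apply,
    exteriorPower.alternatingMapLinearEquiv_apply_ιMulti]
  refine ExtPull.wedge_unique φ hE ?_ (hψ _ _)
  intro j W hW hWj
  show resM _ hW (resM _ h (ψ U.1 e)) = _
  rw [resM_resM]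
  refine (hψ U.1 e j W _ hWj).trans ?_
  congr 1
  funext a
  exact (resM_resM _ _ _ _).symm

end Groth.Agent.Canon15
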