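import Groth.Prelude.Def_RedSub
import Groth.Agent.RelVALib.ChowPn

/-!
# Locally projective morphisms are proper
-/

set_option autoImplicit false
set_option backward.isDefEq.respectTransparency false

universe u

open CategoryTheory CategoryTheory.Limits AlgebraicGeometry TopologicalSpace

namespace Groth.Agent.Canon15

theorem isProper_of_isLocallyProjective {X S : Scheme.{u}} (f : X ⟶ S)
    (h : RedSub.IsLocallyProjective (Over.mk f)) : IsProper f := by
  choose V hV n e he hef using h
  refine (IsZariskiLocalAtTarget.iff_of_iSup_eq_top (P := @IsProper) V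
    (top_le_iff.1 fun s _ => Opens.mem_iSup.2 ⟨s, hV s⟩)).2 fun s => ?_
  haveI := RelVALib.isProper_toBase (n s) (V s : Scheme.{u})
  haveI := he s
  have hp : IsProper (pullback.snd f (V s).ι) := by
    have hq : IsProper (e s ≫ CohB1.ProjSpaceOver.toBase (n s) (V s : Scheme.{u})) := inferInstance
    rw [hef s] at hq
    exact hq
  exact (MorphismProperty.cancel_left_of_respectsIso @IsProper (pullbackRestrictIsoRestrict f (V s)).hom _).1
    (by rw [pullbackRestrictIsoRestrict_hom_morphismRestrict]; exact hp)

end Groth.Agent.Canon15
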