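import Groth.Agent.PicLib.Invertible

/-!
# A generator from a trivialisation over an open
-/

set_option autoImplicit false
set_option backward.isDefEq.respectTransparency.types false

universe u

open CategoryTheory CategoryTheory.Limits AlgebraicGeometry Opposite TopologicalSpace
open Groth.Agent.Coherent Groth.Agent.PicLib

namespace Groth.Agent.Canon15

theorem exists_isGen_of_restrict_iso {X : Scheme.{u}} {L : X.Modules} {U : X.Opens}
    (φ : L.restrict U.ι ≅ (Coh.structureModule X).restrict U.ι) : ∃ s : Γ(L, U), IsGen L U s := by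
  let e : L.restrict U.ι ≅ Coh.structureModule (↑U) := φ ≪≫ Scheme.Modules.restrictUnitIso U.ι
  let s : Γ(L, U.ι ''ᵁ ⊤) := (L.restrictAppIso U.ι ⊤).hom (unitVal e.inv ⊤)
  suffices h : IsGen L (U.ι ''ᵁ ⊤) s from
    ⟨resM L (Scheme.Opens.ι_image_top U).ge s, h.restrict _⟩
  intro V hV
  obtain ⟨W, rfl⟩ : ∃ W : U.toScheme.Opens, U.ι ''ᵁ W = V := by
    refine ⟨U.ι ⁻¹ᵁ V, ?_⟩
    rw [U.ι.image_preimage_eq_opensRange_inf, Scheme.Opens.opensRange_ι, inf_eq_right]
    exact hV.trans (Scheme.Opens.ι_image_top U).le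
  have hiso : IsIso (e.inv.app W) := inferInstance
  have hb1 := ConcreteCategory.bijective_of_isIso (e.inv.app W)
  have hb2 := ConcreteCategory.bijective_of_isIso (L.restrictAppIso U.ι W).hom
  have hb3 := ConcreteCategory.bijective_of_isIso (U.ι.appIso W).hom
  have : (fun r : Γ(X, U.ι ''ᵁ W) => r • resM L hV s) =
      fun r => (L.restrictAppIso U.ι W).hom (e.inv.app W ((U.ι.appIso W).hom r)) := by
    funext r
    refine Eq.trans ?_ (congrArg (L.restrictAppIso U.ι W).hom (app_unit e.inv ((U.ι.appIso W).hom r))).symm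
    rw [← resM_unitVal e.inv (le_top : W ≤ ⊤)]
    refine Eq.trans ?_ (Scheme.Modules.smul_restrictAppIso_hom_apply U.ι L W ((U.ι.appIso W).hom r) _).symm
    rw [← ConcreteCategory.comp_apply (U.ι.appIso W).hom, Iso.hom_inv_id]
    rfl
  rw [this]
  exact hb2.comp (hb1.comp hb3)

end Groth.Agent.Canon15
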